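import Mathlib

/-!
A group of linear maps whose commutators are scalars: coset representatives are linearly independent.
-/

set_option autoImplicit false

namespace Cfsg.Agent.Huppert3360

open Subgroup
open scoped commutatorElement

variable {R : Type*} [Field R] {V : Type*} [AddCommGroup V] [Module R V] [Finite V] [Nontrivial V]
variable {G : Type*} [Group G] [Finite G]

/-- A linear map commuting with all linear maps is a scalar. -/
theorem exists_scalar (X : Module.End R V) (h : ∀ Y : Module.End R V, X * Y = Y * X) :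
    ∃ r : R, ∀ v, X v = r • v := by
  obtain ⟨v0, hv0⟩ := exists_ne (0 : V)
  obtain ⟨l, hl⟩ := Module.Projective.exists_dual_eq_one R hv0
  refine ⟨l (X v0), fun w => ?_⟩
  have h1 := LinearMap.congr_fun (h (l.smulRight w)) v0
  simpa [hl] using h1

/-- Coset representatives of the centre are independent in the endomorphism ring. -/
theorem relIndex_le_sq (φ : G →* AddMonoid.End V) (hφ : Function.Injective φ) (A N : Subgroup G) (hAN : A ≤ N)
    (hlin : ∀ z ∈ N, ∀ (r : R) (v : V), φ z (r • v) = r • φ z v)
    (ι : A →* R) (hι : Function.Injective ι) (hιv : ∀ (a : A) (v : V), φ a v = ι a • v)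
    (hcomm : ∀ x ∈ N, ∀ y ∈ N, ⁅x, y⁆ ∈ A) (hAc : ∀ z ∈ N, ∀ a ∈ A, z * a = a * z)
    (hcent : N ⊓ centralizer (N : Set G) ≤ A) :
    A.relIndex N ≤ Module.finrank R V ^ 2 ∧
    (A.relIndex N = Module.finrank R V ^ 2 → ∀ g : G, g ∈ centralizer (N : Set G) →
      (∀ (r : R) (v : V), φ g (r • v) = r • φ g v) → ∃ r : R, ∀ v, φ g v = r • v) := by
  classical
  have hmul : ∀ a b v, φ (a * b) v = φ a (φ b v) := fun a b v => by rw [map_mul]; rfl
  haveI : Module.Finite R V := Module.Finite.of_finite
  let F : N → Module.End R V := fun z =>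
    { toFun := φ z
      map_add' := map_add _
      map_smul' := fun r v => hlin z z.2 r v }
  let I := ↥N ⧸ A.subgroupOf N
  let rep : I → N := fun i => Quotient.out i
  let χ : N → (N →* R) := fun z => ι.comp
    { toFun := fun y => ⟨⁅(y : G), (z : G)⁆, hcomm y y.2 z z.2⟩
      map_one' := Subtype.ext (commutatorElement_one_left _)
      map_mul' := fun y y' => Subtype.ext (by
        show ⁅(y : G) * y', (z : G)⁆ = ⁅(y : G), (z : G)⁆ * ⁅(y' : G), (z : G)⁆
        rw [commutatorElement_mul_left_eq_conj_mul, hAc y y.2 _ (hcomm y' y'.2 z z.2),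
          mul_inv_cancel_right, ← hAc ⁅(y : G), (z : G)⁆ ?_ _ (hcomm y' y'.2 z z.2)]
        exact hAN (hcomm y y.2 z z.2)) }
  have hχ : ∀ z z' : N, χ z = χ z' → z⁻¹ * z' ∈ A.subgroupOf N := by
    intro z z' e
    rw [mem_subgroupOf]
    refine hcent ⟨(z⁻¹ * z').2, mem_centralizer_iff.2 fun y hy => ?_⟩
    have h1 := congrArg Subtype.val (hι (DFunLike.congr_fun e ⟨y, hy⟩))
    simp only [commutatorElement_def, MonoidHom.coe_mk, OneHom.coe_mk] at h1
    simp only [Subgroup.coe_mul, Subgroup.coe_inv]
    calc y * ((z : G)⁻¹ * z') = y * (z : G)⁻¹ * y⁻¹ * (z : G)⁻¹⁻¹ * ((z : G)⁻¹ * (y * z')) := by group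
      _ = (z : G)⁻¹ * z' * y := by
        have h2 : y * (z : G)⁻¹ * y⁻¹ * (z : G)⁻¹⁻¹ = (z : G)⁻¹ * (y * z * y⁻¹ * (z : G)⁻¹)⁻¹ * z := by group
        rw [h2, h1]
        group
  have hinj : Function.Injective fun i => χ (rep i) := by
    intro i j e
    rw [← QuotientGroup.out_eq' i, ← QuotientGroup.out_eq' j]
    exact QuotientGroup.eq.2 (hχ _ _ e)
  have hind : LinearIndependent R fun i => F (rep i) := by
    haveI : Fintype I := Fintype.ofFinite I
    have hL := (linearIndependent_monoidHom N R).comp _ hinj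
    rw [Fintype.linearIndependent_iff] at hL
    rw [Fintype.linearIndependent_iff]
    intro c hc i
    obtain ⟨v, hv⟩ := exists_ne (0 : V)
    have hne : F (rep i) v ≠ 0 := fun e => hv (by
      have h1 := congrArg (φ ((rep i : G)⁻¹)) (show φ (rep i : G) v = 0 from e)
      rw [map_zero, ← hmul, inv_mul_cancel, map_one] at h1
      exact h1)
    obtain ⟨l, hl⟩ := Module.Projective.exists_dual_eq_one R hne
    have hzero := hL (fun k => c k * l (F (rep k) v)) (funext fun y => ?_) i
    · simpa [hl] using hzero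
    have h1 : ∀ k, φ (y : G) (F (rep k) (φ ((y : G)⁻¹) v)) = χ (rep k) y • F (rep k) v := by
      intro k
      show φ (y : G) (φ (rep k : G) (φ ((y : G)⁻¹) v)) = ι ⟨_, _⟩ • φ (rep k : G) v
      rw [← hιv, ← hmul, ← hmul, ← hmul]
      congr 2
      simp only [commutatorElement_def]
      group
    have h2 := congrArg (φ (y : G)) (LinearMap.congr_fun hc (φ ((y : G)⁻¹) v))
    simp only [LinearMap.coe_sum, Finset.sum_apply, LinearMap.smul_apply, LinearMap.zero_apply, map_sum, map_zero,
      hlin _ y.2, h1, smul_smul] at h2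
    have h3 := congrArg l h2
    simp only [map_sum, map_smul, smul_eq_mul, map_zero] at h3
    simp only [Function.comp_apply, Finset.sum_apply, Pi.smul_apply, smul_eq_mul, Pi.zero_apply]
    rw [← h3]
    exact Finset.sum_congr rfl fun k _ => by ring
  haveI : Fintype I := Fintype.ofFinite I
  have hcard : Fintype.card I = A.relIndex N := by
    rw [← Nat.card_eq_fintype_card]; rfl
  have hrank : Module.finrank R (Module.End R V) = Module.finrank R V ^ 2 := by
    rw [Module.finrank_linearMap, sq]
  refine ⟨by rw [← hcard, ← hrank]; exact hind.fintype_card_le_finrank, fun heq g hg hgl => ?_⟩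
  let X : Module.End R V := { toFun := φ g, map_add' := map_add _, map_smul' := hgl }
  refine exists_scalar X fun Y => ?_
  have htop := hind.span_eq_top_of_card_eq_finrank (by rw [hcard, heq, hrank])
  have hY : Y ∈ Submodule.span R (Set.range fun i => F (rep i)) := htop ▸ Submodule.mem_top
  induction hY using Submodule.span_induction with
  | mem Z hZ =>
    obtain ⟨i, rfl⟩ := hZ
    refine LinearMap.ext fun v => ?_
    show φ g (φ (rep i : G) v) = φ (rep i : G) (φ g v)
    rw [← hmul, ← hmul, mem_centralizer_iff.1 hg _ (rep i).2]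
  | zero => simp
  | add Z W _ _ hZ hW => rw [mul_add, add_mul, hZ, hW]
  | smul r Z _ hZ => rw [mul_smul_comm, smul_mul_assoc, hZ]

end Cfsg.Agent.Huppert3360
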