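import Cfsg.Agent.Coprime.SchurZassenhaus
import Cfsg.Agent.SylowNumber.Induction

/-!
A chief factor above an abelian normal subgroup and its commutator form.
-/

set_option autoImplicit false

namespace Cfsg.Agent.Huppert3360

open Subgroup
open scoped commutatorElement

variable {G : Type*} [Group G] [Finite G]

/-- An elementary abelian normal section of a solvable group, above a normal subgroup. -/
theorem exists_extension [Group.IsSolvable G] {A C : Subgroup G} [A.Normal] [C.Normal] (hAC : A ≤ C)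
    (hCA : ¬ C ≤ A) :
    ∃ (r : ℕ) (N : Subgroup G), r.Prime ∧ N.Normal ∧ A ≤ N ∧ ¬ N ≤ A ∧ N ≤ C ∧
      (∀ x ∈ N, ∀ y ∈ N, ⁅x, y⁆ ∈ A) ∧ ∀ x ∈ N, x ^ r ∈ A := by
  set π := QuotientGroup.mk' A with hπ
  have hker : π.ker = A := QuotientGroup.ker_mk' A
  haveI : (C.map π).Normal := Normal.map inferInstance π (QuotientGroup.mk'_surjective A)
  have hne : C.map π ≠ ⊥ := fun h => hCA (hker ▸ (map_eq_bot_iff C).1 h)
  obtain ⟨M, hMn, hMc, hMC, hMne⟩ := Coprime.exists_minimal_normal_abelian (C.map π) hne inferInstance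
  obtain ⟨r, hr, hrM⟩ := Nat.exists_prime_and_dvd (fun h => hMne (card_eq_one.1 h) : Nat.card M ≠ 1)
  haveI : Fact r.Prime := ⟨hr⟩
  have hcm : ∀ a ∈ M, ∀ b ∈ M, Commute a b := fun a ha b hb =>
    congrArg Subtype.val (hMc.is_comm.comm (⟨a, ha⟩ : M) ⟨b, hb⟩)
  let T : Subgroup (G ⧸ A) :=
    { carrier := {a | a ∈ M ∧ a ^ r = 1}
      one_mem' := ⟨one_mem _, one_pow _⟩
      mul_mem' := fun {a b} ha hb => ⟨mul_mem ha.1 hb.1, by rw [(hcm a ha.1 b hb.1).mul_pow, ha.2, hb.2, one_mul]⟩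
      inv_mem' := fun {a} ha => ⟨inv_mem ha.1, by rw [inv_pow, ha.2, inv_one]⟩ }
  haveI hT : T.Normal := ⟨fun a ha g => ⟨hMn.conj_mem a ha.1 g, by
    rw [conj_pow, ha.2, mul_one, mul_inv_cancel]⟩⟩
  refine ⟨r, T.comap π, hr, inferInstance, hker.symm.trans_le (π.ker_le_comap T), ?_, ?_, fun x hx y hy => ?_, fun x hx => ?_⟩
  · intro hle
    obtain ⟨a, ha⟩ := exists_prime_orderOf_dvd_card' (G := M) r hrM
    obtain ⟨g, hg⟩ := QuotientGroup.mk'_surjective A (a : G ⧸ A)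
    have h1 : g ∈ T.comap π := by
      refine ⟨by rw [hπ, hg]; exact a.2, ?_⟩
      rw [hπ, hg, ← SubgroupClass.coe_pow, ← ha, pow_orderOf_eq_one, OneMemClass.coe_one]
    rw [show a = 1 from Subtype.ext (hg.symm.trans ((QuotientGroup.eq_one_iff g).2 (hle h1))), orderOf_one] at ha
    exact hr.ne_one ha.symm
  · intro x hx
    obtain ⟨c, hc, hcx⟩ := hMC hx.1
    have h1 : x * c⁻¹ ∈ A := by
      rw [← QuotientGroup.eq_one_iff, ← QuotientGroup.mk'_apply, ← hπ, map_mul, map_inv, hcx, mul_inv_cancel]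
    simpa using C.mul_mem (hAC h1) hc
  · rw [← QuotientGroup.eq_one_iff, ← QuotientGroup.mk'_apply, map_commutatorElement]
    exact commutatorElement_eq_one_iff_mul_comm.2 (hcm _ hx.1 _ hy.1)
  · rw [← QuotientGroup.eq_one_iff, ← QuotientGroup.mk'_apply, map_pow]
    exact hx.2

omit [Finite G] in
theorem commutator_pow_right {z w : G} (h : Commute ⁅z, w⁆ w) (n : ℕ) : ⁅z, w ^ n⁆ = ⁅z, w⁆ ^ n := by
  have h1 : z * w * z⁻¹ = ⁅z, w⁆ * w := by rw [commutatorElement_def, inv_mul_cancel_right]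
  rw [commutatorElement_def z (w ^ n), ← conj_pow, h1, h.mul_pow, mul_inv_cancel_right]

theorem mem_zpowers_of_cyclic {A : Subgroup G} [IsCyclic A] {r : ℕ} [Fact r.Prime] {c a : G} (hcA : c ∈ A)
    (hc : c ^ r = 1) (hc1 : c ≠ 1) (haA : a ∈ A) (ha : a ^ r = 1) : a ∈ zpowers c := by
  letI := IsCyclic.commGroup (α := A)
  set K := (powMonoidHom r : A →* A).ker with hK
  have hle : zpowers (⟨c, hcA⟩ : A) ≤ K := zpowers_le.2 (Subtype.ext (by simpa using hc))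
  have heq : zpowers (⟨c, hcA⟩ : A) = K := by
    refine eq_of_le_of_card_ge hle ?_
    rw [Nat.card_zpowers, Subgroup.orderOf_mk, orderOf_eq_prime hc hc1, hK, IsCyclic.card_powMonoidHom_ker]
    exact Nat.gcd_le_right _ (Fact.out : r.Prime).pos
  obtain ⟨k, hk⟩ := mem_zpowers_iff.1 (heq.ge (show (⟨a, haA⟩ : A) ∈ K from Subtype.ext (by simpa using ha)))
  exact mem_zpowers_iff.2 ⟨k, by simpa using congrArg Subtype.val hk⟩

/-- The commutators with two elements. -/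
def pairHom (M : Subgroup G) (x y c : G) (hx : ∀ z ∈ M, ⁅z, x⁆ ∈ zpowers c) (hy : ∀ z ∈ M, ⁅z, y⁆ ∈ zpowers c)
    (hc : ∀ z ∈ M, ∀ u ∈ zpowers c, z * u = u * z) : M →* zpowers c × zpowers c where
  toFun z := (⟨_, hx z z.2⟩, ⟨_, hy z z.2⟩)
  map_one' := Prod.ext (Subtype.ext (commutatorElement_one_left _)) (Subtype.ext (commutatorElement_one_left _))
  map_mul' z w := by
    refine Prod.ext (Subtype.ext ?_) (Subtype.ext ?_)
    · show ⁅(z : G) * w, x⁆ = ⁅(z : G), x⁆ * ⁅(w : G), x⁆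
      rw [commutatorElement_mul_left_eq_conj_mul, hc z z.2 _ (hx w w.2), mul_inv_cancel_right]
      exact congrArg Subtype.val (IsCyclic.commGroup.mul_comm (⟨_, hx w w.2⟩ : zpowers c) ⟨_, hx z z.2⟩)
    · show ⁅(z : G) * w, y⁆ = ⁅(z : G), y⁆ * ⁅(w : G), y⁆
      rw [commutatorElement_mul_left_eq_conj_mul, hc z z.2 _ (hy w w.2), mul_inv_cancel_right]
      exact congrArg Subtype.val (IsCyclic.commGroup.mul_comm (⟨_, hy w w.2⟩ : zpowers c) ⟨_, hy z z.2⟩)

omit [Finite G] in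
theorem pairHom_eq_one {M : Subgroup G} {x y c : G} {hx : ∀ z ∈ M, ⁅z, x⁆ ∈ zpowers c}
    {hy : ∀ z ∈ M, ⁅z, y⁆ ∈ zpowers c} {hc : ∀ z ∈ M, ∀ u ∈ zpowers c, z * u = u * z} (z : M) :
    pairHom M x y c hx hy hc z = 1 ↔ (z : G) * x = x * z ∧ (z : G) * y = y * z := by
  simp [pairHom, Prod.ext_iff, Subtype.ext_iff, commutatorElement_eq_one_iff_mul_comm]

section

variable {A N : Subgroup G} [IsCyclic A] {r : ℕ} [Fact r.Prime]
  (hcomm : ∀ x ∈ N, ∀ y ∈ N, ⁅x, y⁆ ∈ A) (hAc : ∀ z ∈ N, ∀ a ∈ A, z * a = a * z)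
  (hpow : ∀ x ∈ N, x ^ r ∈ A)

include hcomm hAc hpow

omit [Finite G] [IsCyclic A] [Fact r.Prime] in
theorem commutator_pow_eq_one {x y : G} (hx : x ∈ N) (hy : y ∈ N) : ⁅x, y⁆ ^ r = 1 := by
  rw [← commutator_pow_right (hAc y hy _ (hcomm x hx y hy)).symm, commutatorElement_eq_one_iff_mul_comm]
  exact hAc x hx _ (hpow y hy)

theorem split {M : Subgroup G} (hAM : A ≤ M) (hMN : M ≤ N) {x y : G} (hx : x ∈ M) (hy : y ∈ M)
    (hne : x * y ≠ y * x) :
    ∃ M' : Subgroup G, A ≤ M' ∧ M' ≤ M ∧ (∀ z, z ∈ M' ↔ z ∈ M ∧ z * x = x * z ∧ z * y = y * z) ∧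
      A.relIndex M = A.relIndex M' * r ^ 2 ∧ ∀ w ∈ M, ∃ u ∈ closure ({x, y} : Set G), u⁻¹ * w ∈ M' := by
  set c := ⁅x, y⁆ with hc
  have hcA : c ∈ A := hcomm x (hMN hx) y (hMN hy)
  have hc1 : c ≠ 1 := fun e => hne (commutatorElement_eq_one_iff_mul_comm.1 e)
  have hcr : c ^ r = 1 := commutator_pow_eq_one hcomm hAc hpow (hMN hx) (hMN hy)
  have hin : ∀ z ∈ M, ∀ v ∈ M, ⁅z, v⁆ ∈ zpowers c := fun z hz v hv =>
    mem_zpowers_of_cyclic hcA hcr hc1 (hcomm z (hMN hz) v (hMN hv))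
      (commutator_pow_eq_one hcomm hAc hpow (hMN hz) (hMN hv))
  let φ := pairHom M x y c (fun z hz => hin z hz x hx) (fun z hz => hin z hz y hy)
    (fun z hz u hu => hAc z (hMN hz) u (zpowers_le.2 hcA hu))
  have hxy : ∀ i j : ℤ, φ (⟨y, hy⟩ ^ (-i) * ⟨x, hx⟩ ^ j) =
      (⟨c, mem_zpowers c⟩ ^ i, ⟨c, mem_zpowers c⟩ ^ j) := by
    intro i j
    have h1 : φ ⟨y, hy⟩ = (⟨c, mem_zpowers c⟩⁻¹, 1) :=
      Prod.ext (Subtype.ext (commutatorElement_inv x y).symm) (Subtype.ext (commutatorElement_self y))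
    have h2 : φ ⟨x, hx⟩ = (1, ⟨c, mem_zpowers c⟩) :=
      Prod.ext (Subtype.ext (commutatorElement_self x)) rfl
    rw [map_mul, map_zpow, map_zpow, h1, h2]
    simp
  have hgen : ∀ w : M, ∃ i j : ℤ, φ w = φ (⟨y, hy⟩ ^ (-i) * ⟨x, hx⟩ ^ j) := by
    intro w
    obtain ⟨i, hi⟩ := mem_zpowers_iff.1 (φ w).1.2
    obtain ⟨j, hj⟩ := mem_zpowers_iff.1 (φ w).2.2
    refine ⟨i, j, (Prod.ext (Subtype.ext ?_) (Subtype.ext ?_) : φ w = _).trans (hxy i j).symm⟩
    · simpa using hi.symm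
    · simpa using hj.symm
  have hmem : ∀ z, z ∈ φ.ker.map M.subtype ↔ z ∈ M ∧ z * x = x * z ∧ z * y = y * z := by
    intro z
    constructor
    · rintro ⟨w, hw, rfl⟩
      exact ⟨w.2, (pairHom_eq_one w).1 hw⟩
    · rintro ⟨hz, h⟩
      exact ⟨⟨z, hz⟩, (pairHom_eq_one (⟨z, hz⟩ : M)).2 h, rfl⟩
  refine ⟨φ.ker.map M.subtype, fun a ha => (hmem a).2 ⟨hAM ha, (hAc x (hMN hx) a ha).symm,
    (hAc y (hMN hy) a ha).symm⟩, map_subtype_le _, hmem, ?_, fun w hw => ?_⟩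
  · rw [← relIndex_mul_relIndex A _ M (fun a ha => (hmem a).2 ⟨hAM ha, (hAc x (hMN hx) a ha).symm,
      (hAc y (hMN hy) a ha).symm⟩) (map_subtype_le _)]
    congr 1
    have hsurj : φ.range = ⊤ := by
      rw [eq_top_iff]
      rintro ⟨⟨a, ha⟩, ⟨b, hb⟩⟩ -
      obtain ⟨i, rfl⟩ := mem_zpowers_iff.1 ha
      obtain ⟨j, rfl⟩ := mem_zpowers_iff.1 hb
      exact ⟨_, (hxy i j).trans (Prod.ext (Subtype.ext (by simp)) (Subtype.ext (by simp)))⟩
    rw [relIndex, subgroupOf, comap_map_eq_self_of_injective M.subtype_injective, index_ker, hsurj, card_top, Nat.card_prod, Nat.card_zpowers,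
      orderOf_eq_prime hcr hc1, sq]
  · obtain ⟨i, j, hij⟩ := hgen ⟨w, hw⟩
    refine ⟨y ^ (-i) * x ^ j, mul_mem (zpow_mem (subset_closure (by simp)) _)
      (zpow_mem (subset_closure (by simp)) _), _,
      (show (⟨y, hy⟩ ^ (-i) * ⟨x, hx⟩ ^ j : M)⁻¹ * ⟨w, hw⟩ ∈ φ.ker from ?_), by simp⟩
    rw [MonoidHom.mem_ker, map_mul, map_inv, hij, inv_mul_cancel]

theorem relIndex_eq_pow : ∀ (k : ℕ) (M : Subgroup G), Nat.card M = k → A ≤ M → M ≤ N →
    M ⊓ centralizer (M : Set G) ≤ A → ∃ a, A.relIndex M = r ^ (2 * a) := by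
  intro k
  induction k using Nat.strong_induction_on with
  | _ k ih =>
    intro M hk hAM hMN hcent
    by_cases hab : ∀ x ∈ M, ∀ y ∈ M, x * y = y * x
    · refine ⟨0, ?_⟩
      rw [mul_zero, pow_zero, relIndex_eq_one]
      exact fun x hx => hcent ⟨hx, mem_centralizer_iff.2 fun y hy => hab y hy x hx⟩
    push Not at hab
    obtain ⟨x, hx, y, hy, hne⟩ := hab
    obtain ⟨M', hAM', hM'M, hmem, hrel, hdec⟩ := split hcomm hAc hpow hAM hMN hx hy hne
    have hlt : Nat.card M' < k := hk ▸ lt_of_le_of_ne (card_le_of_le hM'M) fun e => hne (by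
      have h1 : x ∈ M' := (eq_of_le_of_card_ge hM'M e.ge).symm ▸ hx
      exact ((hmem x).1 h1).2.2)
    have hc' : M' ⊓ centralizer (M' : Set G) ≤ A := by
      rintro z ⟨hz, hz'⟩
      refine hcent ⟨hM'M hz, mem_centralizer_iff.2 fun w hw => ?_⟩
      obtain ⟨u, hu, huw⟩ := hdec w hw
      have h1 : Commute u z := by
        refine (mem_centralizer_iff.1 ((closure_le _).2 ?_ hu) z rfl : z * u = u * z).symm
        rintro v (rfl | rfl)
        · exact mem_centralizer_iff.2 fun _ e => by obtain rfl := Set.mem_singleton_iff.1 e; exact ((hmem _).1 hz).2.1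
        · exact mem_centralizer_iff.2 fun _ e => by obtain rfl := Set.mem_singleton_iff.1 e; exact ((hmem _).1 hz).2.2
      have h2 : Commute (u⁻¹ * w) z := mem_centralizer_iff.1 hz' _ huw
      simpa using (h1.mul_left h2).eq
    obtain ⟨a, ha⟩ := ih _ hlt M' rfl hAM' (hM'M.trans hMN) hc'
    exact ⟨a + 1, by rw [hrel, ha, ← pow_add]; ring⟩

end

/-- An element of prime order fixes, modulo `t`, as many cosets as there are. -/
theorem exists_fixed (A N : Subgroup G) [A.Normal] [N.Normal] {t : ℕ} [Fact t.Prime] {g : G} (hg : g ^ t = 1) :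
    ∃ f : ℕ, f ∣ A.relIndex N ∧ A.relIndex N ≡ f [MOD t] ∧ ((∀ x ∈ N, ⁅g, x⁆ ∈ A → x ∈ A) → f = 1) ∧
      (f = A.relIndex N → ∀ x ∈ N, ⁅g, x⁆ ∈ A) := by
  set π := QuotientGroup.mk' A with hπ
  have hcard : Nat.card (N.map π) = A.relIndex N := by
    rw [← relIndex_ker, QuotientGroup.ker_mk']
  haveI : (N.map π).Normal := Normal.map inferInstance π (QuotientGroup.mk'_surjective A)
  set F := N.map π ⊓ centralizer (zpowers (π g) : Set (G ⧸ A)) with hF
  have hP : IsPGroup t (zpowers (π g)) := by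
    rintro ⟨u, hu⟩
    obtain ⟨i, rfl⟩ := mem_zpowers_iff.1 hu
    refine ⟨1, Subtype.ext ?_⟩
    show (π g ^ i) ^ t ^ 1 = 1
    rw [pow_one, ← zpow_natCast, ← zpow_mul, mul_comm, zpow_mul, zpow_natCast, ← map_pow, hg, map_one, one_zpow]
  have hiff : ∀ x, π x ∈ centralizer (zpowers (π g) : Set (G ⧸ A)) ↔ ⁅g, x⁆ ∈ A := by
    intro x
    rw [zpowers_eq_closure, centralizer_closure, mem_centralizer_singleton_iff, ← QuotientGroup.eq_one_iff,
      ← QuotientGroup.mk'_apply, map_commutatorElement, commutatorElement_eq_one_iff_mul_comm]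
    exact ⟨Eq.symm, Eq.symm⟩
  refine ⟨Nat.card F, hcard ▸ card_dvd_of_le inf_le_left, hcard ▸ SylowNumber.card_modEq_inf_centralizer hP
    (by rw [normalizer_eq_top]; exact le_top), fun h => card_eq_one.2 (eq_bot_iff.2 ?_), fun h x hx => ?_⟩
  · rintro _ ⟨⟨x, hx, rfl⟩, hx'⟩
    exact (QuotientGroup.eq_one_iff x).2 (h x hx ((hiff x).1 hx'))
  · have := eq_of_le_of_card_ge (inf_le_left : F ≤ N.map π) (hcard ▸ h.ge)
    exact (hiff x).1 (this.ge (mem_map_of_mem π hx)).2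

theorem card_mulAut_dvd_six {M : Type*} [Group M] [Finite M] (h : Nat.card M = 4) : Nat.card (MulAut M) ∣ 6 := by
  classical
  letI : Fintype M := Fintype.ofFinite M
  let ψ : MulAut M →* Equiv.Perm {x : M // x ≠ 1} :=
    { toFun := fun e => e.toEquiv.subtypeEquiv fun x => (EmbeddingLike.map_ne_one_iff (f := e)).symm
      map_one' := rfl
      map_mul' := fun _ _ => rfl }
  have hinj : Function.Injective ψ := fun a b e => MulEquiv.ext fun x => by
    by_cases hx : x = 1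
    · simp [hx]
    · exact congrArg Subtype.val (Equiv.congr_fun e ⟨x, hx⟩)
  refine (card_dvd_of_injective ψ hinj).trans ?_
  rw [Nat.card_perm, Nat.card_eq_fintype_card, Fintype.card_subtype_compl, Fintype.card_subtype_eq,
    ← Nat.card_eq_fintype_card, h]
  exact dvd_of_eq rfl

end Cfsg.Agent.Huppert3360
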