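import Cfsg.Agent.Huppert3360.Linear
import Cfsg.Agent.Huppert3360.Structure
import Cfsg.Agent.SolRegular.Field
import Cfsg.Agent.LocalStructure.Zsigmondy

/-!
Huppert's theorem on solvable groups transitive on the nonzero vectors.
-/

set_option autoImplicit false

namespace Cfsg.Agent.Huppert3360

open Subgroup SolRegular
open scoped commutatorElement

variable {q : ℕ} [hq : Fact q.Prime]

/-- `t` is a primitive prime divisor of `q ^ n - 1`. -/
structure Prim (q n t : ℕ) : Prop where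
  prime : t.Prime
  dvd : t ∣ q ^ n - 1
  min : ∀ k : ℕ, 0 < k → k < n → ¬ t ∣ q ^ k - 1

theorem modEq_iff {t : ℕ} (k : ℕ) : q ^ k ≡ 1 [MOD t] ↔ t ∣ q ^ k - 1 :=
  ⟨fun h => (Nat.modEq_iff_dvd' (Nat.one_le_pow _ _ hq.out.pos)).1 h.symm,
    fun h => ((Nat.modEq_iff_dvd' (Nat.one_le_pow _ _ hq.out.pos)).2 h).symm⟩

theorem Prim.not_dvd {n t : ℕ} (h : Prim q n t) (hn : 0 < n) : ¬ t ∣ q := fun hd => by
  have h1 := Nat.dvd_sub (hd.trans (dvd_pow_self q hn.ne')) h.dvd
  rw [Nat.sub_sub_self (Nat.one_le_pow _ _ hq.out.pos)] at h1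
  exact h.prime.ne_one (Nat.dvd_one.1 h1)

theorem Prim.lt {n t : ℕ} (h : Prim q n t) (hn : 0 < n) : n < t := by
  by_contra hle
  haveI := Fact.mk h.prime
  have h2 : (q : ZMod t) ≠ 0 := fun e => h.not_dvd hn ((ZMod.natCast_eq_zero_iff q t).1 e)
  have h3 : t ∣ q ^ (t - 1) - 1 := by
    rw [← ZMod.natCast_eq_zero_iff, Nat.cast_sub (Nat.one_le_pow _ _ hq.out.pos), Nat.cast_pow,
      ZMod.pow_card_sub_one_eq_one h2, Nat.cast_one, sub_self]
  have := h.prime.two_le
  exact h.min (t - 1) (by omega) (by omega) h3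

theorem mem_of_coprime {G : Type*} [Group G] {C : Subgroup G} [C.Normal] {g : G} {t : ℕ} (hg : g ^ t = 1)
    (h : Nat.Coprime t C.index) : g ∈ C := by
  rw [← QuotientGroup.eq_one_iff, ← orderOf_eq_one_iff]
  refine Nat.eq_one_of_dvd_coprimes h (orderOf_dvd_of_pow_eq_one ?_) (orderOf_dvd_of_pow_eq_one ?_)
  · rw [← QuotientGroup.mk_pow, hg, QuotientGroup.mk_one]
  · rw [← QuotientGroup.mk_pow, QuotientGroup.eq_one_iff]
    exact C.pow_index_mem g

variable {V : Type*} [AddCommGroup V] [Module (ZMod q) V] [Finite V] [Nontrivial V]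
variable {G : Type*} [Group G] [Finite G] (ρ : G →* (V ≃ₗ[ZMod q] V))

omit [Nontrivial V] in
theorem natCard_submodule (W : Submodule (ZMod q) V) :
    ∃ k, Nat.card W = q ^ k ∧ k ≤ Module.finrank (ZMod q) V := by
  haveI : Module.Finite (ZMod q) V := Module.Finite.of_finite
  exact ⟨Module.finrank (ZMod q) W, by rw [Module.natCard_eq_pow_finrank (K := ZMod q), Nat.card_zmod],
    W.finrank_le⟩

/-- The centraliser of an element of primitive prime order is cyclic. -/
theorem centralizer_cyclic (hρ : Function.Injective ρ) {n t : ℕ} (hV : Nat.card V = q ^ n) (hn : 0 < n)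
    (hp : Prim q n t) {g : G} (hg : orderOf g = t) : IsCyclic (centralizer ({g} : Set G)) := by
  classical
  haveI := Fact.mk hp.prime
  haveI : Module.Finite (ZMod q) V := Module.Finite.of_finite
  let P := zpowers g
  have hPp : IsPGroup t P := IsPGroup.of_card (n := 1) (by rw [Nat.card_zpowers, hg, pow_one])
  let Fx : Submodule (ZMod q) V := LinearMap.ker ((ρ g).toLinearMap - LinearMap.id)
  have hFx : ∀ v, v ∈ Fx ↔ ρ g v = v := fun v => by
    rw [LinearMap.mem_ker, LinearMap.sub_apply, sub_eq_zero]; rfl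
  have hcount : ∀ W : Submodule (ZMod q) V, (∀ w ∈ W, ρ g w ∈ W) →
      Nat.card W ≡ Nat.card (W ⊓ Fx : Submodule (ZMod q) V) [MOD t] := by
    intro W hW
    have hpow : ∀ (x : P) (w : V), w ∈ W → ρ (x : G) w ∈ W := by
      rintro ⟨x, hx⟩ w hw
      obtain ⟨i, rfl⟩ := ((isOfFinOrder_of_finite g).mem_zpowers_iff_mem_range_orderOf.1 hx
        |> fun h => Finset.mem_image.1 h |> fun ⟨i, _, hi⟩ => (⟨i, hi⟩ : ∃ i, g ^ i = x))
      induction i with
      | zero => simpa using hw
      | succ i ih =>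
        have : ρ (g ^ (i + 1)) w = ρ g (ρ (g ^ i) w) := by rw [pow_succ', map_mul]; rfl
        show ρ (g ^ (i + 1)) w ∈ W
        rw [this]
        exact hW _ (ih (pow_mem (mem_zpowers g) i))
    letI : MulAction P W :=
      { smul := fun x w => ⟨ρ (x : G) w, hpow x w w.2⟩
        one_smul := fun w => Subtype.ext (by show ρ ((1 : P) : G) w = w; simp)
        mul_smul := fun x y w => Subtype.ext (by
          show ρ ((x * y : P) : G) w = ρ (x : G) (ρ (y : G) w)
          simp) }
    refine (hPp.card_modEq_card_fixedPoints W).trans (congrArg (· % t) (Nat.card_congr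
      { toFun := fun w => ⟨w.1.1, w.1.2, (hFx _).2 (congrArg Subtype.val (w.2 ⟨g, mem_zpowers g⟩))⟩
        invFun := fun w => ⟨⟨w.1, w.2.1⟩, fun x => Subtype.ext ?_⟩
        left_inv := fun _ => rfl
        right_inv := fun _ => rfl }))
    obtain ⟨x, hx⟩ := x
    obtain ⟨i, rfl⟩ := mem_zpowers_iff.1 hx
    show ρ (g ^ i) w.1 = w.1
    have hs : ρ g ∈ MulAction.stabilizer (V ≃ₗ[ZMod q] V) (w.1 : V) :=
      MulAction.mem_stabilizer_iff.2 ((hFx _).1 w.2.2)
    have := Subgroup.zpow_mem _ hs i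
    rw [← map_zpow] at this
    exact MulAction.mem_stabilizer_iff.1 this
  have hdiv : ∀ i j : ℕ, i ≤ j → q ^ j ≡ q ^ i [MOD t] → t ∣ q ^ (j - i) - 1 := by
    intro i j hij h
    rw [← Nat.add_sub_cancel' hij, pow_add] at h
    have := Nat.ModEq.cancel_left_of_coprime ((hp.prime.coprime_iff_not_dvd.2 fun e => hp.not_dvd hn
      (hp.prime.dvd_of_dvd_pow e))) (h.trans (by rw [mul_one] : q ^ i ≡ q ^ i * 1 [MOD t]))
    exact (modEq_iff _).1 this
  have hfr : Module.finrank (ZMod q) V = n :=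
    Nat.pow_right_injective hq.out.two_le
      (by
        show q ^ Module.finrank (ZMod q) V = q ^ n
        rw [← hV, Module.natCard_eq_pow_finrank (K := ZMod q) (V := V), Nat.card_zmod])
  have hFx0 : Fx = ⊥ := by
    obtain ⟨j, hj, hjn⟩ := natCard_submodule Fx
    have h1 := hcount ⊤ fun _ _ => trivial
    rw [top_inf_eq, Nat.card_congr (Submodule.topEquiv).toEquiv, hV, hj] at h1
    have h2 := hdiv j n (hfr ▸ hjn) h1
    by_contra hne
    have hj0 : 0 < j := Nat.pos_of_ne_zero fun e => hne (by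
      rw [e, pow_zero] at hj
      haveI := (Nat.card_eq_one_iff_unique.1 hj).1
      exact Submodule.eq_bot_of_subsingleton)
    rcases (hfr ▸ hjn : j ≤ n).lt_or_eq with hlt | heq
    · exact hp.min _ (by omega) (by omega) h2
    · have hall : ∀ v, ρ g v = v := fun v => (hFx v).1 (by
        rw [Submodule.eq_top_of_finrank_eq (S := Fx) ?_]; · trivial
        refine Nat.pow_right_injective hq.out.two_le ?_
        show q ^ Module.finrank (ZMod q) Fx = q ^ Module.finrank (ZMod q) V
        rw [hfr, ← heq, ← hj, Module.natCard_eq_pow_finrank (K := ZMod q) (V := Fx), Nat.card_zmod])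
      have : g = 1 := hρ (by rw [map_one]; exact LinearEquiv.ext hall)
      rw [this, orderOf_one] at hg
      exact hp.prime.ne_one hg.symm
  have hirr : ∀ W : Submodule (ZMod q) V, (∀ w ∈ W, ρ g w ∈ W) → W = ⊥ ∨ W = ⊤ := by
    intro W hW
    obtain ⟨k, hk, hkn⟩ := natCard_submodule W
    have h1 := hcount W hW
    rw [hFx0, inf_bot_eq, show Nat.card (⊥ : Submodule (ZMod q) V) = 1 from Nat.card_unique, hk,
      modEq_iff] at h1
    rcases Nat.eq_zero_or_pos k with rfl | hk0
    · left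
      rw [pow_zero] at hk
      haveI := (Nat.card_eq_one_iff_unique.1 hk).1
      exact Submodule.eq_bot_of_subsingleton
    · right
      refine Submodule.eq_top_of_finrank_eq (Nat.pow_right_injective hq.out.two_le ?_)
      show q ^ Module.finrank (ZMod q) W = q ^ Module.finrank (ZMod q) V
      rw [hfr, ← le_antisymm (hfr ▸ hkn) (not_lt.1 fun hlt => hp.min k hk0 hlt h1), ← hk,
        Module.natCard_eq_pow_finrank (K := ZMod q) (V := W), Nat.card_zmod]
  let D := Subalgebra.centralizer (ZMod q) ({(ρ g).toLinearMap} : Set (Module.End (ZMod q) V))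
  haveI : Finite (Module.End (ZMod q) V) :=
    Finite.of_injective (fun g : Module.End (ZMod q) V => (g : V → V)) DFunLike.coe_injective
  haveI : Nontrivial D := by
    obtain ⟨v, hv⟩ := exists_ne (0 : V)
    exact ⟨0, 1, fun e => hv (by simpa using (LinearMap.congr_fun (congrArg Subtype.val e) v).symm)⟩
  haveI : NoZeroDivisors D := ⟨fun {a b} hab => by
    by_contra! hne
    rcases hirr (LinearMap.ker (a : Module.End (ZMod q) V)) (fun w hw => by
      rw [LinearMap.mem_ker] at hw ⊢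
      have h1 := LinearMap.congr_fun (Subalgebra.mem_centralizer_iff _ |>.1 a.2 _ rfl) w
      rw [Module.End.mul_apply, Module.End.mul_apply, hw, map_zero] at h1
      exact h1.symm) with h | h
    · refine hne.2 (Subtype.ext (LinearMap.ext fun v => ?_))
      have : (b : Module.End (ZMod q) V) v ∈ LinearMap.ker (a : Module.End (ZMod q) V) :=
        LinearMap.congr_fun (congrArg Subtype.val hab) v
      rw [h, Submodule.mem_bot] at this
      exact this
    · exact hne.1 (Subtype.ext (LinearMap.ker_eq_top.1 h))⟩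
  haveI : IsDomain D := NoZeroDivisors.to_isDomain D
  letI : Field D := (Finite.isDomain_to_isField D).toField
  let f : centralizer ({g} : Set G) →* D :=
    { toFun := fun x => ⟨(ρ (x : G)).toLinearMap, Subalgebra.mem_centralizer_iff _ |>.2 fun y hy => by
        rw [Set.mem_singleton_iff.1 hy]
        show (ρ g * ρ (x : G)).toLinearMap = (ρ (x : G) * ρ g).toLinearMap
        rw [← map_mul, ← map_mul, mem_centralizer_singleton_iff.1 x.2]⟩
      map_one' := Subtype.ext (by simp; rfl)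
      map_mul' := fun x y => Subtype.ext (by simp) }
  exact isCyclic_of_subgroup_isDomain f fun x y h =>
    Subtype.ext (hρ (LinearEquiv.toLinearMap_injective (congrArg Subtype.val h)))

omit [Nontrivial V] in
theorem pow_sub_one_dvd_card (htr : ∀ v w : V, v ≠ 0 → w ≠ 0 → ∃ g : G, ρ g v = w) {v0 : V} (hv0 : v0 ≠ 0) :
    Nat.card V - 1 ∣ Nat.card G := by
  letI : MulAction G V := MulAction.compHom V ρ
  have horb : MulAction.orbit G v0 = {v : V | v ≠ 0} := by
    ext v
    constructor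
    · rintro ⟨g, rfl⟩ e
      exact hv0 ((ρ g).injective (e.trans (map_zero _).symm))
    · intro hv
      obtain ⟨g, hg⟩ := htr v0 v hv0 hv
      exact ⟨g, hg⟩
  have h := MulAction.index_stabilizer G v0
  rw [horb, show {v : V | v ≠ 0} = {0}ᶜ from rfl, Set.ncard_compl, Set.ncard_singleton] at h
  exact h ▸ index_dvd_card _

theorem card_dvd_twenty_four {A N : Subgroup G} [A.Normal] [N.Normal] [IsCyclic A] (hAN : A ≤ N)
    (hcomm : ∀ x ∈ N, ∀ y ∈ N, ⁅x, y⁆ ∈ A) (hAc : ∀ z : G, ∀ a ∈ A, z * a = a * z) (hpow : ∀ x ∈ N, x ^ 2 ∈ A)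
    (hrel : A.relIndex N = 2 ^ 2) (hcN : centralizer (N : Set G) ≤ A) : Nat.card G ∣ 24 * Nat.card A := by
  haveI : Fact (Nat.Prime 2) := ⟨Nat.prime_two⟩
  obtain ⟨x, hx, y, hy, hne⟩ : ∃ x ∈ N, ∃ y ∈ N, x * y ≠ y * x := by
    by_contra! h
    have h1 : A.relIndex N = 1 := relIndex_eq_one.2 fun x hx => hcN (mem_centralizer_iff.2 fun y hy => h y hy x hx)
    rw [h1] at hrel
    norm_num at hrel
  obtain ⟨M', hAM', -, hmem, hrel', hdec⟩ :=
    split hcomm (fun z _ => hAc z) hpow hAN le_rfl hx hy hne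
  have hM' : M' ≤ A := relIndex_eq_one.1 (Nat.eq_of_mul_eq_mul_right (by norm_num : 0 < 2 ^ 2)
    ((hrel'.symm.trans hrel).trans (one_mul _).symm))
  set π := QuotientGroup.mk' A with hπ
  haveI : (N.map π).Normal := Normal.map inferInstance π (QuotientGroup.mk'_surjective A)
  let ψ : G →* MulAut (N.map π) := (MulAut.conjNormal (H := N.map π)).comp π
  set K := ψ.ker with hK
  have hK6 : K.index ∣ 6 := by
    rw [index_ker]
    exact (card_subgroup_dvd_card _).trans (card_mulAut_dvd_six (by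
      rw [← relIndex_ker, QuotientGroup.ker_mk', hrel]; norm_num))
  have hKA : ∀ g ∈ K, ∀ z ∈ N, ⁅g, z⁆ ∈ A := by
    intro g hg z hz
    have h1 := congrArg Subtype.val (DFunLike.congr_fun (MonoidHom.mem_ker.1 hg) ⟨π z, mem_map_of_mem π hz⟩)
    rw [← QuotientGroup.eq_one_iff, ← QuotientGroup.mk'_apply, map_commutatorElement,
      commutatorElement_eq_one_iff_mul_comm]
    exact mul_inv_eq_iff_eq_mul.1 h1
  set c := ⁅x, y⁆ with hc
  have hcA : c ∈ A := hcomm x hx y hy
  have hin : ∀ g ∈ K, ∀ z ∈ N, ⁅g, z⁆ ∈ zpowers c := by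
    intro g hg z hz
    refine mem_zpowers_of_cyclic hcA (commutator_pow_eq_one hcomm (fun z _ => hAc z) hpow hx hy)
      (fun e => hne (commutatorElement_eq_one_iff_mul_comm.1 e)) (hKA g hg z hz) ?_
    rw [← commutator_pow_right (show Commute _ z from (hAc z _ (hKA g hg z hz)).symm),
      commutatorElement_eq_one_iff_mul_comm]
    exact hAc g _ (hpow z hz)
  let φ := pairHom K x y c (fun g hg => hin g hg x hx) (fun g hg => hin g hg y hy)
    (fun z _ u hu => hAc z u (zpowers_le.2 hcA hu))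
  have hker : φ.ker.map K.subtype ≤ A := by
    rintro _ ⟨g, hg, rfl⟩
    obtain ⟨h1, h2⟩ := (pairHom_eq_one g).1 hg
    refine hcN (mem_centralizer_iff.2 fun w hw => ?_)
    obtain ⟨u, hu, huw⟩ := hdec w hw
    have h3 : Commute u (g : G) := by
      refine (mem_centralizer_iff.1 ((closure_le _).2 ?_ hu) (g : G) rfl : (g : G) * u = u * g).symm
      rintro v (rfl | rfl)
      · exact mem_centralizer_iff.2 fun _ e => by obtain rfl := Set.mem_singleton_iff.1 e; exact h1
      · exact mem_centralizer_iff.2 fun _ e => by obtain rfl := Set.mem_singleton_iff.1 e; exact h2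
    have h4 : Commute (u⁻¹ * w) (g : G) := (hAc g _ (hM' huw)).symm
    simpa using (h3.mul_left h4).eq
  have h4 : Nat.card φ.range ∣ 4 := by
    refine (card_subgroup_dvd_card _).trans ?_
    rw [Nat.card_prod, Nat.card_zpowers]
    exact mul_dvd_mul (orderOf_dvd_of_pow_eq_one (commutator_pow_eq_one hcomm (fun z _ => hAc z) hpow hx hy))
      (orderOf_dvd_of_pow_eq_one (commutator_pow_eq_one hcomm (fun z _ => hAc z) hpow hx hy))
  have hkerA : Nat.card φ.ker ∣ Nat.card A := by
    rw [← card_map_of_injective K.subtype_injective]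
    exact card_dvd_of_le hker
  rw [← card_mul_index K, ← card_mul_index φ.ker, index_ker]
  calc Nat.card φ.ker * Nat.card φ.range * K.index ∣ Nat.card A * 4 * 6 :=
        mul_dvd_mul (mul_dvd_mul hkerA h4) hK6
    _ = 24 * Nat.card A := by ring

omit hq in
theorem arith_six {d m r a : ℕ} (h : d * m = 6) (hm : 2 ≤ m) (hr : r.Prime) (hrd : r ∣ 2 ^ d - 1) (ha : 0 < a)
    (hle : r ^ a ≤ m) : d = 2 ∧ m = 3 ∧ r = 3 ∧ a = 1 := by
  have hd3 : d ≤ 3 := by nlinarith
  have hr1 : r ≤ r ^ a := Nat.le_self_pow (by omega) r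
  have := hr.two_le
  interval_cases d
  · omega
  · simp at hrd; omega
  · obtain rfl : m = 3 := by omega
    obtain rfl : r = 3 := (Nat.prime_dvd_prime_iff_eq hr Nat.prime_three).1 hrd
    refine ⟨rfl, rfl, rfl, ?_⟩
    have := Nat.pow_le_pow_iff_right (a := 3) (n := a) (m := 1) (by norm_num)
    rw [pow_one] at this
    have := this.1 hle
    omega
  · obtain rfl : r = 7 := (Nat.prime_dvd_prime_iff_eq hr (by norm_num)).1 hrd
    omega

theorem arith_two {N : ℕ} (hN : N ∣ 24 * (q - 1)) (h : q ^ 2 - 1 ∣ N) (hq2 : q ≠ 2) :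
    q ^ 2 ∈ ({9, 25, 49, 121, 529, 81} : Set ℕ) := by
  have h1 : q + 1 ∣ 24 := by
    refine Nat.dvd_of_mul_dvd_mul_right (show 0 < q - 1 by have := hq.out.two_le; omega) ?_
    refine (dvd_of_eq ?_).trans (h.trans hN)
    rw [← Nat.sq_sub_sq, one_pow]
  have hle := Nat.le_of_dvd (by norm_num) h1
  have hqp := hq.out
  have : q ≤ 23 := by omega
  interval_cases q <;> simp_all +decide

/-- If the prime divisors of `(q ^ h + 1) / 2` are only `4 * h / 2 + 1`, then `q = 3` and `h = 2`. -/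
theorem arith_fermat {a : ℕ} (ha : 2 ≤ a) (hodd : Odd q) {N : ℕ} (hN : q ^ 2 ^ a - 1 ∣ N)
    (hprim : ∀ s, Prim q (2 ^ a) s → s = 2 ^ a + 1 ∧ ¬ s ^ 2 ∣ N) : q ^ 2 ^ a = 81 := by
  obtain ⟨b, rfl⟩ : ∃ b, a = b + 2 := ⟨a - 2, by omega⟩
  set h := 2 ^ (b + 1) with hh
  have hn : 2 ^ (b + 2) = 2 * h := by rw [hh, ← pow_succ']
  have hb1 : 1 ≤ 2 ^ b := Nat.one_le_two_pow
  have h4 : q ^ h % 4 = 1 := by
    rw [hh, pow_succ', pow_mul, Nat.pow_mod]
    have : q ^ 2 % 4 = 1 := by
      obtain ⟨k, rfl⟩ := hodd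
      rw [show (2 * k + 1) ^ 2 = 1 + 4 * (k * k + k) by ring, Nat.add_mul_mod_self_left]
    rw [this, one_pow]; norm_num
  obtain ⟨w, hw, hwodd⟩ : ∃ w, q ^ h + 1 = 2 * w ∧ ¬ 2 ∣ w := ⟨(q ^ h + 1) / 2, by omega, by omega⟩
  have hpos : 1 ≤ q ^ h := Nat.one_le_pow _ _ hq.out.pos
  have hdvd : w ∣ q ^ (2 * h) - 1 := by
    refine Dvd.intro_left (2 * (q ^ h - 1)) ?_
    have : q ^ (2 * h) = q ^ h * q ^ h := by rw [← pow_add]; ring_nf
    rw [this, show 2 * (q ^ h - 1) * w = (q ^ h - 1) * (2 * w) by ring, ← hw, Nat.sub_mul, one_mul, mul_add,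
      mul_one]
    omega
  have hall : ∀ {s : ℕ}, s.Prime → s ∣ w → s = 2 ^ (b + 2) + 1 ∧ ¬ s ^ 2 ∣ N := by
    intro s hs hsw
    haveI := Fact.mk hs
    refine hprim s ⟨hs, hn ▸ hsw.trans hdvd, fun k hk hkn hd => ?_⟩
    have hs2 : s ≠ 2 := fun e => hwodd (e ▸ hsw)
    have hcast : ∀ k, s ∣ q ^ k - 1 → (q : ZMod s) ^ k = 1 := fun k hk => by
      rw [← ZMod.natCast_eq_zero_iff, Nat.cast_sub (Nat.one_le_pow _ _ hq.out.pos), sub_eq_zero] at hk
      simpa using hk
    have hneg : (q : ZMod s) ^ h = -1 := by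
      have := (ZMod.natCast_eq_zero_iff (q ^ h + 1) s).2 (hw ▸ dvd_mul_of_dvd_right hsw 2)
      push_cast at this
      exact eq_neg_of_add_eq_zero_left this
    obtain ⟨i, hi, hord⟩ := (Nat.dvd_prime_pow Nat.prime_two).1
      (orderOf_dvd_of_pow_eq_one (hcast _ (hn ▸ hsw.trans hdvd)) : orderOf (q : ZMod s) ∣ 2 ^ (b + 2))
    rcases hi.lt_or_eq with hlt | rfl
    · have h1 : orderOf (q : ZMod s) ∣ h := hord ▸ pow_dvd_pow 2 (by omega)
      rw [orderOf_dvd_iff_pow_eq_one, hneg] at h1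
      haveI : Fact (2 < s) := ⟨by have := hs.two_le; omega⟩
      exact ZMod.neg_one_ne_one h1
    · have := Nat.le_of_dvd hk (hord ▸ orderOf_dvd_of_pow_eq_one (hcast k hd))
      omega
  have hw0 : w ≠ 0 := by omega
  have hpow := Nat.eq_prime_pow_of_unique_prime_dvd hw0 fun {s} hs hsw => (hall hs hsw).1
  set e := w.primeFactorsList.length
  have hw1 : w ≠ 1 := fun e => by
    have : q ^ h = 1 := by omega
    rw [Nat.pow_eq_one] at this
    rcases this with h1 | h1
    · exact hq.out.one_lt.ne' h1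
    · exact absurd h1 (by positivity)
  obtain ⟨s, hs, hsw⟩ := Nat.exists_prime_and_dvd hw1
  obtain ⟨hseq, hsq⟩ := hall hs hsw
  have he : e = 1 := by
    rcases (show e = 0 ∨ e = 1 ∨ 2 ≤ e by omega) with h0 | h0 | h0
    · rw [h0, pow_zero] at hpow; exact absurd hpow hw1
    · exact h0
    · refine absurd (((pow_dvd_pow _ h0).trans (dvd_of_eq ?_)).trans ((hn ▸ hdvd).trans hN)) hsq
      rw [hseq]; exact hpow.symm
  rw [he, pow_one] at hpow
  have hval : q ^ h = 4 * h + 1 := by omega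
  have hh2 : h = 2 := by
    by_contra hne
    have h3 : 3 ≤ h := by
      have : 2 ≤ h := by rw [hh, pow_succ]; omega
      omega
    have key : ∀ j, 3 ≤ j → 4 * j + 1 < 3 ^ j := fun j hj => by
      induction j, hj using Nat.le_induction with
      | base => norm_num
      | succ j _ ih => rw [pow_succ]; omega
    have hq3 : 3 ≤ q := by obtain ⟨k, rfl⟩ := hodd; have := hq.out.two_le; omega
    have := Nat.pow_le_pow_left hq3 h
    have := key h h3
    omega
  rw [hn, hh2, show 2 * 2 = 2 + 2 from rfl, pow_add]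
  rw [hh2] at hval
  rw [hval]; norm_num

variable {ρ}

/-- Huppert's theorem. -/
theorem huppert [Group.IsSolvable G] (hρ : Function.Injective ρ)
    (htr : ∀ v w : V, v ≠ 0 → w ≠ 0 → ∃ g : G, ρ g v = w) :
    Semi (fun g v => ρ g v) ∨ Nat.card V ∈ ({9, 25, 49, 121, 529, 81} : Set ℕ) := by
  classical
  obtain ⟨A, ⟨hAn, hAab⟩, hmax'⟩ := (Set.toFinite {A : Subgroup G | A.Normal ∧ ∀ a ∈ A, ∀ b ∈ A, a * b = b * a}).exists_maximal
    ⟨⊥, inferInstance, fun a ha b hb => by rw [mem_bot.1 ha, mem_bot.1 hb]⟩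
  haveI := hAn
  have hmax : ∀ B : Subgroup G, B.Normal → (∀ a ∈ B, ∀ b ∈ B, a * b = b * a) → A ≤ B → B ≤ A :=
    fun B hB hBab hle => hmax' ⟨hB, hBab⟩ hle
  obtain ⟨R, _, _, _, d, hd, hR, hm, hV, hidx, ⟨ι, hι, hιv⟩, hlin, hone⟩ := exists_field_module ρ hρ htr A hAab
  set m := Module.finrank R V with hmdef
  by_cases hm1 : m = 1
  · exact Or.inl (hone hm1).1
  haveI : IsCyclic A := isCyclic_of_subgroup_isDomain ι hι
  have hAd : Nat.card A ∣ q ^ d - 1 := hR ▸ card_dvd_of_injective_monoidHom ι hι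
  set n := d * m with hn
  have hn2 : d + d ≤ n := (by omega : d + d = d * 2).trans_le (Nat.mul_le_mul_left d (by omega : 2 ≤ m))
  obtain ⟨v0, hv0⟩ := exists_ne (0 : V)
  have hG : q ^ n - 1 ∣ Nat.card G := hV ▸ pow_sub_one_dvd_card ρ htr hv0
  have hqd : 1 ≤ q ^ d := Nat.one_le_pow _ _ hq.out.pos
  set C := centralizer (A : Set G) with hC
  have hAC : A ≤ C := fun a ha => mem_centralizer_iff.2 fun b hb => hAab b hb a ha
  have hCA : ¬ C ≤ A := by
    intro hle
    have hAeq : C = A := le_antisymm hle hAC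
    rw [hAeq] at hidx
    have h1 := Nat.le_of_dvd (Nat.card_pos) hG
    have h3 : 2 ≤ q ^ d := hq.out.two_le.trans (Nat.le_self_pow hd.ne' q)
    have h2 : Nat.card G ≤ (q ^ d - 1) * d := by
      rw [← card_mul_index A]
      exact Nat.mul_le_mul (Nat.le_of_dvd (by omega) hAd) (Nat.le_of_dvd hd hidx)
    have h4 : q ^ (d + d) ≤ q ^ n := Nat.pow_le_pow_right hq.out.pos hn2
    have h5 : d < q ^ d := Nat.lt_pow_self hq.out.one_lt
    have h6 : (q ^ d - 1) * (q ^ d + 1) ≤ (q ^ d - 1) * d := by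
      refine le_trans ?_ h2
      refine le_trans ?_ h1
      rw [pow_add] at h4
      rw [Nat.sub_mul, one_mul, mul_add, mul_one]
      omega
    have := Nat.le_of_mul_le_mul_left h6 (by omega)
    omega
  obtain ⟨r, N, hr, hNn, hAN, hNA, hNC, hcomm, hpow⟩ := exists_extension hAC hCA
  haveI := hNn
  haveI := Fact.mk hr
  have hcA : ∀ z ∈ C, ∀ a ∈ A, z * a = a * z := fun z hz a ha => (mem_centralizer_iff.1 hz a ha).symm
  have hAcN : ∀ z ∈ N, ∀ a ∈ A, z * a = a * z := fun z hz => hcA z (hNC hz)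
  have hcent : N ⊓ centralizer (N : Set G) ≤ A :=
    hmax _ inferInstance (fun a ha b hb => (mem_centralizer_iff.1 ha.2 b hb.1).symm)
      (le_inf hAN fun a ha => mem_centralizer_iff.2 fun z hz => hAcN z hz a ha)
  obtain ⟨x, hx, y, hy, hne⟩ : ∃ x ∈ N, ∃ y ∈ N, x * y ≠ y * x := by
    by_contra! h
    exact hNA fun x hx => hcent ⟨hx, mem_centralizer_iff.2 fun y hy => h y hy x hx⟩
  obtain ⟨a, ha⟩ := relIndex_eq_pow hcomm hAcN hpow _ N rfl hAN le_rfl hcent
  have ha0 : 0 < a := Nat.pos_of_ne_zero fun e => hNA (relIndex_eq_one.1 (by rw [ha, e, mul_zero, pow_zero]))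
  have hrd : r ∣ q ^ d - 1 := by
    refine dvd_trans ?_ hAd
    rw [← orderOf_eq_prime (commutator_pow_eq_one hcomm hAcN hpow hx hy)
      (fun e => hne (commutatorElement_eq_one_iff_mul_comm.1 e)),
      ← orderOf_mk _ (hcomm x hx y hy)]
    exact orderOf_dvd_natCard _
  let φ : G →* AddMonoid.End V :=
    { toFun := fun g => (ρ g).toAddEquiv.toAddMonoidHom
      map_one' := by ext v; simp; rfl
      map_mul' := fun g h => by ext v; simp; rfl }
  have hφ : Function.Injective φ := fun g h e => hρ (LinearEquiv.ext fun v => DFunLike.congr_fun e v)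
  obtain ⟨hsq, hfull⟩ := relIndex_le_sq (R := R) φ hφ A N hAN (fun z hz => hlin z (hNC hz)) ι hι hιv hcomm hAcN hcent
  rw [ha, ← hmdef, mul_comm 2 a, pow_mul] at hsq hfull
  have hle : r ^ a ≤ m := (Nat.pow_le_pow_iff_left (by norm_num)).1 hsq
  -- when the representatives span, only scalars centralise
  have hscal : r ^ a = m → C ⊓ centralizer (N : Set G) ≤ A := by
    intro heq
    have key : ∀ g, g ∈ C ⊓ centralizer (N : Set G) → ∀ z ∈ C, g * z = z * g := by
      rintro g ⟨hgC, hgN⟩ z hz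
      obtain ⟨c, hc⟩ := hfull (by rw [heq]) g hgN (hlin g hgC)
      refine hρ (LinearEquiv.ext fun v => ?_)
      rw [map_mul, map_mul, LinearEquiv.mul_apply, LinearEquiv.mul_apply]
      have hc' : ∀ v, ρ g v = c • v := hc
      rw [hc', hc', hlin z hz]
    exact hmax _ inferInstance (fun g hg h hh => key g hg h hh.1)
      (le_inf hAC fun a ha => mem_centralizer_iff.2 fun z hz => hAcN z hz a ha)
  -- fixed cosets are fixed elements
  have hfix : ∀ {t : ℕ}, t.Prime → t ≠ r → ∀ g ∈ C, g ^ t = 1 → ∀ x ∈ N, ⁅g, x⁆ ∈ A → g * x = x * g := by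
    intro t ht htr g hgC hgt x hx hgx
    have h1 : ⁅g, x⁆ ^ r = 1 := by
      rw [← commutator_pow_right (show Commute _ x from (hAcN x hx _ hgx).symm),
        commutatorElement_eq_one_iff_mul_comm]
      exact hcA g hgC _ (hpow x hx)
    have h2 : ⁅x, g⁆ ^ t = 1 := by
      rw [← commutator_pow_right (show Commute _ g from (hcA g hgC _ ?_).symm), hgt, commutatorElement_one_right]
      rw [← commutatorElement_inv]; exact A.inv_mem hgx
    rw [← commutatorElement_inv, inv_pow, inv_eq_one] at h2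
    exact commutatorElement_eq_one_iff_mul_comm.1 (orderOf_eq_one_iff.1 (Nat.eq_one_of_dvd_coprimes
      ((Nat.coprime_primes ht hr).2 htr) (orderOf_dvd_of_pow_eq_one h2) (orderOf_dvd_of_pow_eq_one h1)))
  by_cases hn_two : n = 2
  · right
    obtain rfl : d = 1 := by omega
    have hm2 : m = 2 := by omega
    have hr2 : r = 2 ∧ a = 1 := by
      have h1 : r ≤ r ^ a := Nat.le_self_pow (by omega) r
      obtain rfl : r = 2 := by have := hr.two_le; omega
      exact ⟨rfl, by
        have := (Nat.pow_le_pow_iff_right (a := 2) (n := a) (m := 1) (by norm_num)).1 (by rw [pow_one]; omega)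
        omega⟩
    obtain ⟨rfl, rfl⟩ := hr2
    have hCtop : C = ⊤ := index_eq_one.1 (Nat.dvd_one.1 hidx)
    have h24 := card_dvd_twenty_four hAN hcomm (fun z a ha => hcA z (hCtop ▸ mem_top z) a ha) hpow ha
      (fun z hz => hscal hm2.symm ⟨hCtop ▸ mem_top z, hz⟩)
    rw [pow_one] at hAd hrd
    rw [hV, show n = 2 from hn_two]
    refine arith_two (h24.trans (mul_dvd_mul_left 24 hAd)) (by rw [hn_two] at hG; exact hG) ?_
    rintro rfl
    norm_num at hrd
  by_cases h26 : q = 2 ∧ n = 6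
  · exfalso
    obtain ⟨rfl, h6⟩ := h26
    obtain ⟨rfl, hm3, rfl, rfl⟩ := arith_six h6 (by omega) hr hrd ha0 hle
    haveI : Fact (Nat.Prime 7) := ⟨by norm_num⟩
    have h7 : 7 ∣ Nat.card G := dvd_trans (by rw [h6]; norm_num) hG
    obtain ⟨g, hg⟩ := exists_prime_orderOf_dvd_card' 7 h7
    have hgt : g ^ 7 = 1 := hg ▸ pow_orderOf_eq_one g
    have hgC : g ∈ C := mem_of_coprime hgt (Nat.Coprime.coprime_dvd_right hidx (by norm_num))
    obtain ⟨f, hf, hmod, -, hall⟩ := exists_fixed A N hgt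
    rw [ha] at hf hmod hall
    have hf9 : f = 9 := by
      obtain ⟨i, hi, rfl⟩ := (Nat.dvd_prime_pow Nat.prime_three).1 hf
      interval_cases i
      · exact absurd hmod (by decide)
      · exact absurd hmod (by decide)
      · norm_num
    have hgA : g ∈ A := hscal (by rw [hm3, pow_one]) ⟨hgC, mem_centralizer_iff.2 fun x hx =>
      (hfix (by norm_num) (by norm_num) g hgC hgt x hx (hall (by rw [hf9]; norm_num) x hx)).symm⟩
    have := (orderOf_dvd_natCard (⟨g, hgA⟩ : A)).trans hAd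
    rw [orderOf_mk, hg] at this
    norm_num at this
  -- primitive primes
  have hn3 : 3 ≤ n := by omega
  have hprim : ∀ t, Prim q n t → t = n + 1 ∧ d = 1 ∧ r = 2 ∧ n = 2 ^ a ∧ ¬ t ^ 2 ∣ Nat.card G := by
    intro t hp
    haveI := Fact.mk hp.prime
    have htn := hp.lt (by omega)
    have htd : ¬ t ∣ d := fun h => by have := Nat.le_of_dvd hd h; omega
    have htr' : t ≠ r := fun e => hp.min d hd (by omega) (e ▸ hrd)
    have hgC : ∀ g : G, g ^ t = 1 → g ∈ C := fun g hgt =>
      mem_of_coprime hgt (Nat.Coprime.coprime_dvd_right hidx (hp.prime.coprime_iff_not_dvd.2 htd))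
    have hfpf : ∀ g : G, orderOf g = t → ∀ x ∈ N, ⁅g, x⁆ ∈ A → x ∈ A := by
      intro g hg x hx hgx
      have hgt : g ^ t = 1 := hg ▸ pow_orderOf_eq_one g
      have hgc := hgC g hgt
      haveI := centralizer_cyclic ρ hρ hV (by omega) hp hg
      letI := IsCyclic.commGroup (α := centralizer ({g} : Set G))
      have hxg := hfix hp.prime htr' g hgc hgt x hx hgx
      refine hcent ⟨hx, mem_centralizer_iff.2 fun y hy => ?_⟩
      set P := (y * g) ^ t with hP
      have hPN : P ∈ N := by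
        rw [← QuotientGroup.eq_one_iff, hP, QuotientGroup.mk_pow, QuotientGroup.mk_mul,
          (QuotientGroup.eq_one_iff y).2 hy, one_mul, ← QuotientGroup.mk_pow, hgt, QuotientGroup.mk_one]
      have hPA : ⁅g, P⁆ ∈ A := by
        have h1 : ⁅y * g, P⁆ = 1 := commutatorElement_eq_one_iff_mul_comm.2 (Commute.self_pow _ _).eq
        rw [commutatorElement_mul_left_eq_conj_mul, mul_eq_one_iff_eq_inv] at h1
        have h2 : y * ⁅g, P⁆ * y⁻¹ ∈ A := h1 ▸ A.inv_mem (hcomm y hy P hPN)
        simpa [mul_assoc] using hAn.conj_mem _ h2 y⁻¹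
      have hPg := hfix hp.prime htr' g hgc hgt P hPN hPA
      have hxP : x * P = P * x := congrArg Subtype.val (mul_comm
        (⟨x, mem_centralizer_singleton_iff.2 hxg.symm⟩ : centralizer ({g} : Set G))
        ⟨P, mem_centralizer_singleton_iff.2 hPg.symm⟩)
      have hc : ⁅x, y * g⁆ = ⁅x, y⁆ := by
        rw [commutatorElement_mul_right_eq_mul_conj, commutatorElement_eq_one_iff_mul_comm.2 hxg.symm]
        simp
      have h2 : ⁅x, y⁆ ^ t = 1 := by
        rw [← hc, ← commutator_pow_right (show Commute _ (y * g) from ?_),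
          commutatorElement_eq_one_iff_mul_comm.2 hxP]
        rw [hc]
        exact (hcA (y * g) (C.mul_mem (hNC hy) hgc) _ (hcomm x hx y hy)).symm
      exact (commutatorElement_eq_one_iff_mul_comm.1 (orderOf_eq_one_iff.1 (Nat.eq_one_of_dvd_coprimes
        ((Nat.coprime_primes hp.prime hr).2 htr') (orderOf_dvd_of_pow_eq_one h2)
        (orderOf_dvd_of_pow_eq_one (commutator_pow_eq_one hcomm hAcN hpow hx hy))))).symm
    obtain ⟨g, hg⟩ := exists_prime_orderOf_dvd_card' t (hp.dvd.trans hG)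
    obtain ⟨f, -, hmod, hf1, -⟩ := exists_fixed A N (hg ▸ pow_orderOf_eq_one g : g ^ t = 1)
    rw [hf1 (hfpf g hg), ha] at hmod
    have hle2 : t ≤ r ^ a + 1 := by
      have h1 : t ∣ (r ^ a + 1) * (r ^ a - 1) := by
        rw [← Nat.sq_sub_sq, one_pow, ← pow_mul, mul_comm a 2]
        exact (Nat.modEq_iff_dvd' (Nat.one_le_pow _ _ hr.pos)).1 hmod.symm
      have hra : 2 ≤ r ^ a := hr.two_le.trans (Nat.le_self_pow ha0.ne' r)
      rcases hp.prime.dvd_mul.1 h1 with h | h
      · exact Nat.le_of_dvd (by omega) h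
      · have := Nat.le_of_dvd (by omega) h
        omega
    have hd1 : d = 1 := by
      by_contra h
      have : 2 * m ≤ n := Nat.mul_le_mul_right m (by omega : 2 ≤ d)
      omega
    have hnm : n = m := by rw [hn, hd1, one_mul]
    have htn' : t = n + 1 := by omega
    have hna : n = r ^ a := by omega
    have hr2 : r = 2 := by
      rcases hp.prime.eq_two_or_odd with h | h
      · omega
      · have h2 : 2 ∣ r ^ a := by omega
        exact ((Nat.prime_dvd_prime_iff_eq Nat.prime_two hr).1 (Nat.prime_two.dvd_of_dvd_pow h2)).symm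
    refine ⟨htn', hd1, hr2, hr2 ▸ hna, fun hsq => ?_⟩
    obtain ⟨T, hT⟩ := Sylow.exists_subgroup_card_pow_prime t hsq
    obtain ⟨u, hu⟩ := exists_prime_orderOf_dvd_card' (G := T) t (hT ▸ dvd_pow_self t two_ne_zero)
    rw [← orderOf_coe] at hu
    have hTu : T ≤ centralizer ({(u : G)} : Set G) := fun z hz => mem_centralizer_singleton_iff.2
      (congrArg Subtype.val ((IsPGroup.commutative_of_card_eq_prime_sq hT) (⟨z, hz⟩ : T) u))
    haveI := centralizer_cyclic ρ hρ hV (by omega) hp hu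
    haveI : IsCyclic T := isCyclic_of_injective (inclusion hTu) (inclusion_injective hTu)
    obtain ⟨⟨h, hhT⟩, hh⟩ := IsCyclic.exists_ofOrder_eq_natCard (α := T)
    rw [orderOf_mk, hT] at hh
    obtain ⟨x, hx, hxA⟩ := SetLike.not_le_iff_exists.1 hNA
    set π := QuotientGroup.mk' A with hπ
    haveI : (N.map π).Normal := Normal.map inferInstance π (QuotientGroup.mk'_surjective A)
    let F : Fin (t ^ 2) → N.map π := fun i => ⟨π (h ^ (i : ℕ)) * π x * (π (h ^ (i : ℕ)))⁻¹,
      (inferInstance : (N.map π).Normal).conj_mem _ (mem_map_of_mem π hx) _⟩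
    have hFi : Function.Injective F := by
      suffices ∀ i j : ℕ, i < j → j < t ^ 2 →
          π (h ^ i) * π x * (π (h ^ i))⁻¹ ≠ π (h ^ j) * π x * (π (h ^ j))⁻¹ by
        intro i j e
        have e' := congrArg Subtype.val e
        rcases lt_trichotomy (i : ℕ) j with h | h | h
        · exact absurd e' (this i j h j.2)
        · exact Fin.ext h
        · exact absurd e'.symm (this j i h i.2)
      intro i j hij hj e
      obtain ⟨k, rfl⟩ := Nat.exists_eq_add_of_le hij.le
      set o := orderOf (h ^ k) with ho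
      have hne1 : o ≠ 1 := fun e1 => by
        have h2 := orderOf_dvd_of_pow_eq_one (orderOf_eq_one_iff.1 e1)
        rw [hh] at h2
        have := Nat.le_of_dvd (by omega) h2
        omega
      have hto : t ∣ o := by
        obtain ⟨i', -, hi'⟩ := (Nat.dvd_prime_pow hp.prime).1
          ((orderOf_pow_dvd k).trans hh.dvd : o ∣ t ^ 2)
        rcases i' with _ | i'
        · exact absurd (hi'.trans (pow_zero t)) hne1
        · exact (dvd_pow_self t (by omega)).trans hi'.symm.dvd
      have hord : orderOf ((h ^ k) ^ (o / t)) = t := by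
        rw [orderOf_pow_orderOf_div ?_ hto]
        exact (orderOf_pos _).ne'
      have hcm : Commute (π (h ^ k)) (π x) := by
        refine mul_inv_eq_iff_eq_mul.1 ?_
        rw [pow_add, map_mul] at e
        have := congrArg (fun z => (π (h ^ i))⁻¹ * z * π (h ^ i)) e
        simpa [mul_assoc] using this.symm
      refine hxA (hfpf _ hord x hx ?_)
      rw [← QuotientGroup.eq_one_iff, ← QuotientGroup.mk'_apply, map_commutatorElement,
        commutatorElement_eq_one_iff_mul_comm, map_pow]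
      exact (hcm.pow_left _).eq
    have hcount := Nat.card_le_card_of_injective F hFi
    rw [Nat.card_fin, ← relIndex_ker, QuotientGroup.ker_mk', ha, mul_comm 2 a, pow_mul, ← hna, htn'] at hcount
    nlinarith
  obtain ⟨t, ht⟩ := LocalStructure.zsigmondy hq.out.one_lt (by omega) h26 (fun h => hn_two h.1)
  obtain ⟨-, hd1, hr2, hna, -⟩ := hprim t ⟨ht.1, ht.2.1, ht.2.2⟩
  right
  subst hd1 hr2
  rw [pow_one] at hrd
  have hodd : Odd q := hq.out.odd_of_ne_two fun e => by subst e; norm_num at hrd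
  rw [hna] at hG hprim
  have ha2 : 2 ≤ a := by
    by_contra h
    obtain rfl : a = 1 := by omega
    omega
  have hres := arith_fermat ha2 hodd hG fun s hs => ⟨(hprim s hs).1, (hprim s hs).2.2.2.2⟩
  rw [hV, hna, hres]
  simp

end Cfsg.Agent.Huppert3360
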